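import Groth.Agent.Lib.IdealMul9.Basic
import Groth.Agent.Lib.QCoh.FT
import Mathlib.RingTheory.Filtration
import Mathlib.AlgebraicGeometry.Morphisms.Proper

/-! # Sections killed near a closed set and the powers of its ideal -/

set_option autoImplicit false
set_option backward.isDefEq.respectTransparency false
set_option maxHeartbeats 1000000
universe u

open CategoryTheory CategoryTheory.Limits AlgebraicGeometry TopologicalSpace Opposite

noncomputable section

namespace GrothLib.H0c20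

variable {X : Scheme.{u}} (I : X.IdealSheafData) {F : X.Modules}

theorem mem_of_vanish (hF : F.IsQuasicoherent) (s : Γ(F, ⊤)) (V : X.Opens) (hV : I.supportSet ⊆ (V : Set X))
    (hs : F.presheaf.map (homOfLE le_top : V ⟶ ⊤).op s = 0) (n : ℕ) :
    ∃ t, (Dual3.idealMulι (I ^ n) F).app ⊤ t = s := by
  refine (IdealMul9.exists_app_kernel _ ⊤ s).2 ?_
  let η := (Scheme.Modules.pullbackPushforwardAdjunction (I ^ n).subschemeι).unit.app F
  have hcov : ∀ x : X, ∃ U : X.affineOpens, x ∈ U.1 ∧ (U.1 ≤ V ∨ Disjoint (U.1 : Set X) I.supportSet) := fun x => by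
    by_cases hx : x ∈ V
    · obtain ⟨U, hU, hxU, hUV⟩ := exists_isAffineOpen_mem_and_subset (x := x) (U := V) hx
      exact ⟨⟨U, hU⟩, hxU, Or.inl hUV⟩
    · have hc : IsClosed I.supportSet := I.isClosed_supportSet
      obtain ⟨U, hU, hxU, hUV⟩ := exists_isAffineOpen_mem_and_subset (x := x) (U := ⟨I.supportSetᶜ, hc.isOpen_compl⟩)
        (fun h => hx (hV h))
      exact ⟨⟨U, hU⟩, hxU, Or.inr (Set.subset_compl_iff_disjoint_right.1 hUV)⟩
  choose U hxU hU using hcov
  refine TopCat.Sheaf.eq_of_locally_eq' ⟨((Scheme.Modules.pushforward (I ^ n).subschemeι).obj ((Scheme.Modules.pullback (I ^ n).subschemeι).obj F)).presheaf,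
    ((Scheme.Modules.pushforward (I ^ n).subschemeι).obj ((Scheme.Modules.pullback (I ^ n).subschemeι).obj F)).isSheaf⟩
    (fun x => (U x).1) ⊤ (fun x => homOfLE le_top) (fun x _ => Opens.mem_iSup.2 ⟨x, hxU x⟩) _ _ fun x => ?_
  rw [map_zero]
  refine (ConcreteCategory.congr_hom (η.mapPresheaf.naturality (homOfLE (le_top : (U x).1 ≤ ⊤)).op) s).symm.trans ?_
  refine (IdealMul9.exists_app_kernel η (U x).1 _).1 ((IdealMul9.exists_app_idealMulι_iff (I ^ n) hF (U x) _).2 ?_)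
  rcases hU x with h | h
  · have e : F.presheaf.map (homOfLE (le_top : (U x).1 ≤ ⊤)).op s = 0 := by
      rw [show (homOfLE (le_top : (U x).1 ≤ ⊤)) = homOfLE h ≫ homOfLE le_top from rfl, op_comp, Functor.map_comp]
      exact (congrArg (F.presheaf.map (homOfLE h).op) hs).trans (map_zero _)
    exact Eq.substr e (Submodule.zero_mem _)
  · have e : I.ideal (U x) = ⊤ := by
      by_contra hne
      obtain ⟨m, hm, hle⟩ := Ideal.exists_le_maximal _ hne
      let y := (U x).2.fromSpec ⟨m, hm.isPrime⟩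
      have hy : y ∈ (U x).1 := (U x).2.range_fromSpec.subset ⟨_, rfl⟩
      refine Set.disjoint_left.1 h hy (I.zeroLocus_inter_subset_supportSet (U x) ⟨?_, hy⟩)
      have hp : (⟨m, hm.isPrime⟩ : PrimeSpectrum Γ(X, (U x).1)) ∈ (U x).2.fromSpec ⁻¹' X.zeroLocus (I.ideal (U x) : Set Γ(X, (U x).1)) := by
        rw [(U x).2.fromSpec_preimage_zeroLocus]
        exact hle
      exact hp
    rw [Scheme.IdealSheafData.ideal_pow, Pi.pow_apply, e, Ideal.top_pow, Submodule.top_smul]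
    trivial

theorem vanish_of_mem [IsLocallyNoetherian X] (hF : Coh.IsCoh F) (s : Γ(F, ⊤))
    (h : ∀ n : ℕ, ∃ t, (Dual3.idealMulι (I ^ n) F).app ⊤ t = s) :
    ∃ V : X.Opens, I.supportSet ⊆ (V : Set X) ∧ F.presheaf.map (homOfLE le_top : V ⟶ ⊤).op s = 0 := by
  have hloc : ∀ x : X, x ∈ I.supportSet →
      ∃ W : X.Opens, x ∈ W ∧ F.presheaf.map (homOfLE (le_top : W ≤ ⊤)).op s = 0 := by
    intro x hx
    obtain ⟨U, hU, hxU, -⟩ := exists_isAffineOpen_mem_and_subset (x := x) (U := ⊤) trivial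
    haveI := hF.1
    haveI := QCoh.moduleFinite_of_isFiniteType F hF.2 hU
    haveI : IsNoetherianRing Γ(X, U) := IsLocallyNoetherian.component_noetherian ⟨U, hU⟩
    let m : Γ(F, U) := F.presheaf.map (homOfLE (le_top : U ≤ ⊤)).op s
    have hm : m ∈ (⨅ i : ℕ, I.ideal ⟨U, hU⟩ ^ i • ⊤ : Submodule Γ(X, U) Γ(F, U)) := by
      rw [Submodule.mem_iInf]
      intro n
      obtain ⟨t, ht⟩ := h n
      refine (IdealMul9.exists_app_idealMulι_iff (I ^ n) hF.1 ⟨U, hU⟩ m).1
        ⟨((Dual3.idealMul (I ^ n)).obj F).presheaf.map (homOfLE (le_top : U ≤ ⊤)).op t, ?_⟩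
      exact (ConcreteCategory.congr_hom ((Dual3.idealMulι (I ^ n) F).mapPresheaf.naturality
        (homOfLE (le_top : U ≤ ⊤)).op) t).trans (congrArg (F.presheaf.map (homOfLE (le_top : U ≤ ⊤)).op) ht)
    obtain ⟨r, hr⟩ := (Ideal.mem_iInf_smul_pow_eq_bot_iff _ m).1 hm
    let f : Γ(X, U) := 1 - (r : Γ(X, U))
    refine ⟨X.basicOpen f, ?_, ?_⟩
    · by_contra hxf
      have hr' : x ∉ X.basicOpen (r : Γ(X, U)) :=
        (X.mem_zeroLocus_iff _ x).1 (I.supportSet_subset_zeroLocus ⟨U, hU⟩ hx) _ r.2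
      rw [X.mem_basicOpen f x hxU] at hxf
      rw [X.mem_basicOpen (r : Γ(X, U)) x hxU] at hr'
      have h1 : IsUnit (X.presheaf.germ U x hxU f + X.presheaf.germ U x hxU (r : Γ(X, U))) := by
        rw [← map_add, sub_add_cancel, map_one]
        exact isUnit_one
      exact (IsLocalRing.isUnit_or_isUnit_of_isUnit_add h1).elim hxf hr'
    · have hle : X.basicOpen f ≤ U := X.basicOpen_le f
      have h0 : f • m = 0 := by rw [sub_smul, one_smul, hr, sub_self]
      have h1 : X.presheaf.map (homOfLE hle).op f • F.presheaf.map (homOfLE hle).op m = 0 :=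
        (Scheme.Modules.map_smul F (homOfLE hle) f m).symm.trans ((congrArg _ h0).trans (map_zero _))
      have hu : IsUnit (X.presheaf.map (homOfLE hle).op f) := X.toRingedSpace.isUnit_res_basicOpen f
      have h2 := hu.smul_eq_zero.1 h1
      rw [show (homOfLE (le_top : X.basicOpen f ≤ ⊤)) = homOfLE hle ≫ homOfLE le_top from rfl, op_comp,
        Functor.map_comp]
      exact h2
  choose W hxW hW using hloc
  refine ⟨⨆ x : I.supportSet, W x x.2, fun x hx => Opens.mem_iSup.2 ⟨⟨x, hx⟩, hxW x hx⟩, ?_⟩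
  refine TopCat.Sheaf.eq_of_locally_eq' ⟨F.presheaf, F.isSheaf⟩ (fun x : I.supportSet => W x x.2) _
    (fun x => homOfLE (le_iSup (fun x : I.supportSet => W x x.2) x)) le_rfl _ _ fun x => ?_
  rw [map_zero, ← ConcreteCategory.comp_apply]
  erw [← F.presheaf.map_comp]
  exact hW x x.2

theorem mem_iff [IsLocallyNoetherian X] (hF : Coh.IsCoh F) (s : Γ(F, ⊤)) :
    (∀ n : ℕ, ∃ t, (Dual3.idealMulι (I ^ n) F).app ⊤ t = s) ↔
      ∃ V : X.Opens, I.supportSet ⊆ (V : Set X) ∧ F.presheaf.map (homOfLE le_top : V ⟶ ⊤).op s = 0 :=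
  ⟨vanish_of_mem I hF s, fun ⟨V, hV, hs⟩ n => mem_of_vanish I hF.1 s V hV hs n⟩

theorem mem_iff_of_proper {k : Type u} [Field k] (f : X ⟶ Spec (CommRingCat.of k)) [IsProper f]
    (hF : Coh.IsCoh F) (s : Γ(F, ⊤)) :
    (∀ n : ℕ, ∃ t, (Dual3.idealMulι (I ^ n) F).app ⊤ t = s) ↔
      ∃ V : X.Opens, I.supportSet ⊆ (V : Set X) ∧ F.presheaf.map (homOfLE le_top : V ⟶ ⊤).op s = 0 :=
  haveI : IsLocallyNoetherian X := LocallyOfFiniteType.isLocallyNoetherian f
  mem_iff I hF s

end GrothLib.H0c20
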